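import Groth.Agent.RelConeLib.Retract
import Groth.Agent.RelConeLib.ChartRing
import Groth.Agent.RelConeLib.ConeImm
import Groth.Agent.SymAlgLib.Pts
import Groth.Agent.CubeLib.Glue
import Groth.Agent.AmpleThLib.Pow

/-! The pointed projective cone of a line bundle is the inverse line bundle. -/

set_option autoImplicit false
set_option maxHeartbeats 2000000
set_option backward.isDefEq.respectTransparency false
universe u

open CategoryTheory CategoryTheory.Limits AlgebraicGeometry TopologicalSpace Opposite HomogeneousLocalization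
open AmpleLib (GenOn res shT)
open ConeRetrLib (Idx)
open scoped HomogeneousIdeal

noncomputable section

namespace Groth.Agent.PCInvLib

section AwayHom

variable {B C σ : Type u} [CommRing B] [CommRing C] [SetLike σ B] [AddSubgroupClass σ B]
  (ℬ : ℕ → σ) [GradedRing ℬ]

def awayHom {w : B} (g : B →+* C) (hw : IsUnit (g w)) : Away ℬ w →+* C :=
  (Localization.awayLift g w hw).comp (algebraMap (Away ℬ w) (Localization.Away w))

theorem awayHom_mk {d : ℕ} {w : B} (hwd : w ∈ ℬ d) (g : B →+* C) (hw : IsUnit (g w)) (n : ℕ) (x : B)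
    (hx : x ∈ ℬ (n • d)) : awayHom ℬ g hw (Away.mk ℬ hwd n x hx) * g w ^ n = g x := by
  have h := congrArg (Localization.awayLift g w hw) (RelConeLib.Gen.mk_mul_algebraMap_pow w x n)
  rw [map_mul] at h
  simp only [Localization.awayLift, IsLocalization.Away.lift_eq, map_pow] at h
  exact h

theorem awayHom_comp_awayMap {f h x : B} {d e : ℕ} (hf : f ∈ ℬ d) (hh : h ∈ ℬ e) (hx : x = f * h)
    (g : B →+* C) (hgf : IsUnit (g f)) (hgx : IsUnit (g x)) :
    (awayHom ℬ g hgx).comp (awayMap ℬ (f := f) hh hx) = awayHom ℬ g hgf := by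
  refine RingHom.ext fun a => ?_
  obtain ⟨n, b, hb, rfl⟩ := a.mk_surjective _ hf
  refine (hgx.pow n).mul_right_cancel ?_
  rw [RingHom.comp_apply, awayMap_mk, awayHom_mk, map_mul]
  subst hx
  rw [map_mul, mul_pow, map_pow, ← mul_assoc, awayHom_mk]

theorem spec_awayHom_eq {f h : B} (hf : f ∈ ℬ 1) (hh : h ∈ ℬ 1) (g : B →+* C) (hgf : IsUnit (g f))
    (hgh : IsUnit (g h)) :
    Spec.map (CommRingCat.ofHom (awayHom ℬ g hgf)) ≫ Proj.awayι ℬ f hf one_pos =
      Spec.map (CommRingCat.ofHom (awayHom ℬ g hgh)) ≫ Proj.awayι ℬ h hh one_pos := by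
  have hx : IsUnit (g (f * h)) := by rw [map_mul]; exact hgf.mul hgh
  rw [← awayHom_comp_awayMap ℬ hf hh rfl g hgf hx, ← awayHom_comp_awayMap ℬ hh hf (mul_comm f h) g hgh hx,
    CommRingCat.ofHom_comp, CommRingCat.ofHom_comp, Spec.map_comp, Spec.map_comp, Category.assoc, Category.assoc,
    Proj.SpecMap_awayMap_awayι ℬ hf one_pos hh, Proj.SpecMap_awayMap_awayι ℬ hh one_pos hf]

end AwayHom

variable {Y PC : Scheme.{u}} {L L' : Y.Modules}

structure Frame (τ : CohB1.tensorMod L L' ⟶ Coh.structureModule Y) where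
  U : Y.Opens
  hU : IsAffineOpen U
  e : Γ(L, U)
  he : GenOn L e
  e' : Γ(L', U)
  he' : GenOn L' e'
  hτ : τ.app U (shT e e') = (show Γ(Coh.structureModule Y, U) from (1 : Γ(Y, U)))

variable {τ : CohB1.tensorMod L L' ⟶ Coh.structureModule Y}

theorem tau_res {U V : Y.Opens} (h : V ≤ U) (e : Γ(L, U)) (e' : Γ(L', U))
    (hτ : τ.app U (shT e e') = (show Γ(Coh.structureModule Y, U) from (1 : Γ(Y, U)))) :
    τ.app V (shT (res L h e) (res L' h e')) = (show Γ(Coh.structureModule Y, V) from (1 : Γ(Y, V))) := by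
  rw [← AmpleLib.shT_res h e e']
  refine (QCohLib.app_map τ (homOfLE h) _).trans ?_
  rw [hτ]
  exact map_one (Y.presheaf.map (homOfLE h).op).hom

def Frame.restrict (t : Frame τ) {V : Y.Opens} (hV : IsAffineOpen V) (h : V ≤ t.U) : Frame τ :=
  ⟨V, hV, res L h t.e, t.he.res h, res L' h t.e', t.he'.res h, tau_res h t.e t.e' t.hτ⟩

theorem exists_frame (hL : PicF.IsInvertible L) (hL' : PicF.IsInvertible L') [IsIso τ] (y : Y) :
    ∃ t : Frame τ, y ∈ t.U := by
  obtain ⟨U, e, hxU, he⟩ := TwistLib.exists_genOn hL y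
  obtain ⟨U', e', hxU', he'⟩ := TwistLib.exists_genOn hL' y
  obtain ⟨V, hV, hyV, hle⟩ := exists_isAffineOpen_mem_and_subset (show y ∈ U ⊓ U' from ⟨hxU, hxU'⟩)
  have hVU : V ≤ U := fun z hz => (hle hz).1
  have hVU' : V ≤ U' := fun z hz => (hle hz).2
  let s : Γ(L, V) := res L hVU e
  let s' : Γ(L', V) := res L' hVU' e'
  have hs : GenOn L s := he.res hVU
  have hs' : GenOn L' s' := he'.res hVU'
  let c : Γ(Y, V) := τ.app V (shT s s')
  have hgen : GenOn (Coh.structureModule Y) (τ.app V (shT s s')) :=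
    TwistLib.genOn_of_genAt fun x hx => by
      have h1 := (AmpleThLib.shT_genOn hs hs')
      have h2 : GenOn (Coh.structureModule Y) (τ.app V (shT s s')) := fun W hW => by
        have hb := (ConcreteCategory.bijective_of_isIso (τ.app W)).comp (h1 W hW)
        convert hb using 1
        funext r
        simp only [Function.comp_apply]
        rw [QCohLib.app_smul]
        exact congrArg (r • ·) (QCohLib.app_map τ (homOfLE hW) _).symm
      exact h2.genAt hx
  have hc : IsUnit c := by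
    refine CubeLib.isUnit_of_genOn (AmpleLib.one_genOn (X := Y) V) ?_
    convert hgen using 1
    first | exact mul_one c | exact (mul_one c).symm
  obtain ⟨d, hd⟩ := hc.exists_left_inv
  refine ⟨⟨V, hV, s, hs, d • s', CubeLib.genOn_unit_smul hs' (IsUnit.of_mul_eq_one _ hd), ?_⟩, hyV⟩
  have h3 := AmpleLib.shT_smul (M := L) (N := L') (1 : Γ(Y, V)) d s s'
  rw [one_smul, one_mul] at h3
  rw [h3, QCohLib.app_smul]
  exact hd

section

variable [Coh.IsQCoh L] [Coh.IsQCoh L'] {𝒮 𝒮h : RelProj.QCGrAlg Y} {j : L ⟶ 𝒮.toModule}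
  (hS : RelProj.IsGrSymAlg L 𝒮 j) {ι : 𝒮.toQCAlg ⟶ 𝒮h.toQCAlg} {z : 𝒮h.presheaf.obj (op ⊤)}
  (hz : RelCone.IsPolyOver 𝒮 𝒮h ι z) {pC : PC ⟶ Y}
  {chartC : ∀ (U : Y.Opens) (hU : IsAffineOpen U), (((pC ⁻¹ᵁ U : PC.Opens) : Scheme.{u}) ≅ Proj (𝒮h.deg U hU))}
  (hPC : RelProj.IsRelProj 𝒮h pC chartC) {𝒮' : RelSpec.QCAlg Y} {j' : L' ⟶ 𝒮'.toModule}
  (hS' : RelSpec.IsSymAlg L' 𝒮' j') (t : Frame τ)

def coef {M : Y.Modules} {U : Y.Opens} {e : Γ(M, U)} (he : GenOn M e) : Γ(M, U) →+ Γ(Y, U) where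
  toFun := fun m => ((he U le_rfl).2 m).choose
  map_zero' := (he U le_rfl).1 (((he U le_rfl).2 0).choose_spec.trans (zero_smul Γ(Y, U) _).symm)
  map_add' := fun a b => (he U le_rfl).1 ((((he U le_rfl).2 (a + b)).choose_spec.trans
    (congrArg₂ (· + ·) ((he U le_rfl).2 a).choose_spec ((he U le_rfl).2 b).choose_spec).symm).trans
      (add_smul _ _ _).symm)

theorem coef_spec {M : Y.Modules} {U : Y.Opens} {e : Γ(M, U)} (he : GenOn M e) (m : Γ(M, U)) :
    coef he m • e = m := by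
  have h := ((he U le_rfl).2 m).choose_spec
  show ((he U le_rfl).2 m).choose • e = m
  refine Eq.trans ?_ h
  simp only [AmpleLib.res_refl]

theorem coef_eq {M : Y.Modules} {U : Y.Opens} {e : Γ(M, U)} (he : GenOn M e) (r : Γ(Y, U)) :
    coef he (r • e) = r := by
  refine (he U le_rfl).1 ?_
  simp only [AmpleLib.res_refl]
  exact coef_spec he _

theorem coef_smul {M : Y.Modules} {U : Y.Opens} {e : Γ(M, U)} (he : GenOn M e) (a : Γ(Y, U)) (m : Γ(M, U)) :
    coef he (a • m) = a * coef he m := by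
  conv_lhs => rw [← coef_spec he m, smul_smul]
  exact coef_eq he _

abbrev je : 𝒮.presheaf.obj (op t.U) := j.app t.U t.e

abbrev je' : 𝒮'.presheaf.obj (op t.U) := j'.app t.U t.e'

abbrev te : 𝒮h.presheaf.obj (op t.U) := RelProj.gradedHomAt ι hz.graded t.U t.hU (je (j := j) t)

include hS in
theorem je_mem : je (j := j) t ∈ 𝒮.deg t.U t.hU 1 := hS.2 t.U t.hU t.e

include hS in
theorem te_mem : te (j := j) hz t ∈ 𝒮h.deg t.U t.hU 1 :=
  (RelProj.gradedHomAt ι hz.graded t.U t.hU).2 (je_mem hS t)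

include hS in
theorem exists_aU : ∃ a : 𝒮.presheaf.obj (op t.U) →+* 𝒮'.presheaf.obj (op t.U),
    (∀ r, a (𝒮.str.app (op t.U) r) = 𝒮'.str.app (op t.U) r) ∧ a (je (j := j) t) = 1 := by
  obtain ⟨a, ⟨h1, h2⟩, -⟩ := SymAlgLib.existsUnique_hom (A := 𝒮.toQCAlg) hS.1 t.hU
    (R := 𝒮'.presheaf.obj (op t.U)) (𝒮'.str.app (op t.U)).hom
    ((𝒮'.str.app (op t.U)).hom.toAddMonoidHom.comp (coef t.he))
    fun r m => by
      show 𝒮'.str.app (op t.U) (coef t.he (r • m)) = _
      rw [coef_smul, map_mul]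
      rfl
  refine ⟨a, h1, (h2 t.e).trans ?_⟩
  show 𝒮'.str.app (op t.U) (coef t.he t.e) = 1
  have h3 : coef t.he t.e = 1 := by simpa using coef_eq t.he 1
  rw [h3, map_one]

def gU : 𝒮h.presheaf.obj (op t.U) →+* 𝒮'.presheaf.obj (op t.U) :=
  (Polynomial.eval₂RingHom (exists_aU (𝒮' := 𝒮') hS t).choose (je' (j' := j') t)).comp
    (hz.polyEquiv t.U t.hU).symm.toRingHom

theorem gU_ι (a : 𝒮.presheaf.obj (op t.U)) :
    gU (j' := j') hS hz t (RelProj.gradedHomAt ι hz.graded t.U t.hU a) = (exists_aU (𝒮' := 𝒮') hS t).choose a := by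
  have h : hz.polyEquiv t.U t.hU (Polynomial.C a) = RelProj.gradedHomAt ι hz.graded t.U t.hU a := by
    rw [hz.polyEquiv_apply, Polynomial.eval₂_C]
    rfl
  rw [← h, gU, RingHom.comp_apply, RingEquiv.toRingHom_eq_coe, RingEquiv.coe_toRingHom, RingEquiv.symm_apply_apply]
  simp

theorem gU_z : gU (j' := j') hS hz t (RelCone.restrictTop 𝒮h z t.U) = je' (j' := j') t := by
  have h : hz.polyEquiv t.U t.hU Polynomial.X = RelCone.restrictTop 𝒮h z t.U := by
    rw [hz.polyEquiv_apply, Polynomial.eval₂_X]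
  rw [← h, gU, RingHom.comp_apply, RingEquiv.toRingHom_eq_coe, RingEquiv.coe_toRingHom, RingEquiv.symm_apply_apply]
  simp

theorem gU_te : gU (j' := j') hS hz t (te (j := j) hz t) = 1 :=
  (gU_ι hS hz t _).trans (exists_aU (𝒮' := 𝒮') hS t).choose_spec.2

theorem gU_str (r : Γ(Y, t.U)) :
    gU (j' := j') hS hz t (𝒮h.str.app (op t.U) r) = 𝒮'.str.app (op t.U) r := by
  rw [show 𝒮h.str.app (op t.U) r = RelProj.gradedHomAt ι hz.graded t.U t.hU (𝒮.str.app (op t.U) r) from
    (MiscFlat6.gradedHomAt_strZero (φ := ι) (hφ := hz.graded) t.U t.hU r).symm]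
  exact (gU_ι hS hz t _).trans ((exists_aU (𝒮' := 𝒮') hS t).choose_spec.1 r)

def K : Away (𝒮h.deg t.U t.hU) (te (j := j) hz t) →+* 𝒮'.presheaf.obj (op t.U) :=
  awayHom _ (gU (j' := j') hS hz t) (by rw [gU_te hS hz t]; exact isUnit_one)

/-- scalars -/
def cst {𝒯 : RelProj.QCGrAlg Y} (U : Y.Opens) (hU : IsAffineOpen U) (w : 𝒯.presheaf.obj (op U)) :
    Γ(Y, U) →+* Away (𝒯.deg U hU) w :=
  (HomogeneousLocalization.fromZeroRingHom (𝒯.deg U hU) (Submonoid.powers w)).comp (𝒯.strZero U hU).hom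

theorem cst_val {𝒯 : RelProj.QCGrAlg Y} (U : Y.Opens) (hU : IsAffineOpen U) (w : 𝒯.presheaf.obj (op U))
    (r : Γ(Y, U)) : (cst U hU w r).val = algebraMap _ (Localization.Away w) (𝒯.str.app (op U) r) := rfl

theorem awayHom_cst {𝒯 : RelProj.QCGrAlg Y} (U : Y.Opens) (hU : IsAffineOpen U) {w : 𝒯.presheaf.obj (op U)}
    {C : Type u} [CommRing C] (g : 𝒯.presheaf.obj (op U) →+* C) (hw : IsUnit (g w)) (r : Γ(Y, U)) :
    awayHom (𝒯.deg U hU) g hw (cst U hU w r) = g (𝒯.str.app (op U) r) := by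
  show Localization.awayLift g w hw (cst U hU w r).val = _
  rw [cst_val]
  exact IsLocalization.Away.lift_eq w hw _

/-- `X ↦ e'` -/
def piU : Polynomial Γ(Y, t.U) →+* 𝒮'.presheaf.obj (op t.U) :=
  Polynomial.eval₂RingHom (𝒮'.str.app (op t.U)).hom (je' (j' := j') t)

include hS' in
theorem piU_bijective : Function.Bijective (piU (j' := j') t) := by
  obtain ⟨Φ, ⟨h1, h2⟩, -⟩ := SymAlgLib.existsUnique_hom hS' t.hU (R := Polynomial Γ(Y, t.U)) Polynomial.C
    (((AddMonoidHom.mulRight (Polynomial.X : Polynomial Γ(Y, t.U))).comp Polynomial.C.toAddMonoidHom).comp (coef t.he'))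
    fun r m => by
      show Polynomial.C (coef t.he' (r • m)) * Polynomial.X = _
      rw [coef_smul, map_mul, mul_assoc]
      rfl
  have hl : Φ.comp (piU (j' := j') t) = RingHom.id _ := by
    refine Polynomial.ringHom_ext (fun r => ?_) ?_
    · simp [piU, h1]
    · simp only [piU, RingHom.comp_apply, Polynomial.coe_eval₂RingHom, Polynomial.eval₂_X, RingHom.id_apply]
      refine (h2 t.e').trans ?_
      show Polynomial.C (coef t.he' t.e') * Polynomial.X = _
      have h3 : coef t.he' t.e' = 1 := by simpa using coef_eq t.he' 1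
      rw [h3, map_one, one_mul]
  have hr : (piU (j' := j') t).comp Φ = RingHom.id _ := by
    refine (SymAlgLib.existsUnique_hom hS' t.hU (R := 𝒮'.presheaf.obj (op t.U)) (𝒮'.str.app (op t.U)).hom
      (AddMonoidHom.mk' (fun m => j'.app t.U m) fun a b => map_add (j'.app t.U).hom a b)
      fun r m => QCohLib.app_smul j' t.U r m).unique ⟨fun r => ?_, fun m => ?_⟩ ⟨fun r => rfl, fun m => rfl⟩
    · simp [piU, h1]
    · rw [RingHom.comp_apply, h2]
      show piU (j' := j') t (Polynomial.C (coef t.he' m) * Polynomial.X) = j'.app t.U m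
      simp only [piU, Polynomial.coe_eval₂RingHom, Polynomial.eval₂_mul_X, Polynomial.eval₂_C]
      refine Eq.trans ?_ (congrArg (fun n => j'.app t.U n) (coef_spec t.he' m))
      exact (QCohLib.app_smul j' t.U (coef t.he' m) t.e').symm
  exact ⟨fun a b h => by simpa [← RingHom.comp_apply, hl] using congrArg Φ h,
    fun a => ⟨Φ a, RingHom.congr_fun hr a⟩⟩

include hS in
theorem deg_span {n : ℕ} {b : 𝒮.presheaf.obj (op t.U)} (hb : b ∈ 𝒮.deg t.U t.hU n) :
    ∃ r : Γ(Y, t.U), b = 𝒮.str.app (op t.U) r * je (j := j) t ^ n := by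
  classical
  obtain ⟨Φ, ⟨h1, h2⟩, -⟩ := SymAlgLib.existsUnique_hom (A := 𝒮.toQCAlg) hS.1 t.hU (R := Polynomial Γ(Y, t.U))
    Polynomial.C
    (((AddMonoidHom.mulRight (Polynomial.X : Polynomial Γ(Y, t.U))).comp Polynomial.C.toAddMonoidHom).comp (coef t.he))
    fun r m => by
      show Polynomial.C (coef t.he (r • m)) * Polynomial.X = _
      rw [coef_smul, map_mul, mul_assoc]
      rfl
  let π : Polynomial Γ(Y, t.U) →+* 𝒮.presheaf.obj (op t.U) :=
    Polynomial.eval₂RingHom (𝒮.str.app (op t.U)).hom (je (j := j) t)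
  have hr : π.comp Φ = RingHom.id _ := by
    refine (SymAlgLib.existsUnique_hom (A := 𝒮.toQCAlg) hS.1 t.hU (R := 𝒮.presheaf.obj (op t.U))
      (𝒮.str.app (op t.U)).hom
      (AddMonoidHom.mk' (fun m => j.app t.U m) fun a b => map_add (j.app t.U).hom a b)
      fun r m => QCohLib.app_smul j t.U r m).unique ⟨fun r => ?_, fun m => ?_⟩ ⟨fun r => rfl, fun m => rfl⟩
    · rw [RingHom.comp_apply, h1]
      simp [π]
    · rw [RingHom.comp_apply, h2]
      show π (Polynomial.C (coef t.he m) * Polynomial.X) = j.app t.U m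
      simp only [π, Polynomial.coe_eval₂RingHom, Polynomial.eval₂_mul_X, Polynomial.eval₂_C]
      refine Eq.trans ?_ (congrArg (fun n => j.app t.U n) (coef_spec t.he m))
      exact (QCohLib.app_smul j t.U (coef t.he m) t.e).symm
  have hmem : ∀ (i : ℕ) (r : Γ(Y, t.U)), 𝒮.str.app (op t.U) r * je (j := j) t ^ i ∈ 𝒮.deg t.U t.hU i := fun i r => by
    simpa using SetLike.mul_mem_graded (𝒮.str_mem t.U t.hU r) (SetLike.pow_mem_graded i (je_mem hS t))
  refine ⟨(Φ b).coeff n, ?_⟩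
  have hsum : b = ∑ i ∈ (Φ b).support, 𝒮.str.app (op t.U) ((Φ b).coeff i) * je (j := j) t ^ i := by
    conv_lhs => rw [← RingHom.id_apply b, ← hr, RingHom.comp_apply]
    rw [show π (Φ b) = (Φ b).eval₂ (𝒮.str.app (op t.U)).hom (je (j := j) t) from rfl, Polynomial.eval₂_eq_sum,
      Polynomial.sum_def]
  have h' := congrArg (GradedRing.proj (𝒮.deg t.U t.hU) n) hsum
  rw [map_sum] at h'
  simp only [GradedRing.proj_apply, DirectSum.decompose_of_mem_same _ hb] at h'
  refine h'.trans ?_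
  rw [Finset.sum_eq_single n (fun i _ hi => DirectSum.decompose_of_mem_ne _ (hmem i _) hi)
    (fun hn => by rw [Polynomial.notMem_support_iff.mp hn, map_zero, zero_mul, DirectSum.decompose_zero]; rfl),
    DirectSum.decompose_of_mem_same _ (hmem n _)]

include hS in
theorem cst_surjective : Function.Surjective (cst (𝒯 := 𝒮) t.U t.hU (je (j := j) t)) := by
  intro a
  obtain ⟨n, b, hb, rfl⟩ := a.mk_surjective _ (je_mem hS t)
  obtain ⟨r, hr⟩ := deg_span hS t (show b ∈ 𝒮.deg t.U t.hU n by simpa using hb)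
  refine ⟨r, val_injective _ ?_⟩
  refine ((IsLocalization.Away.algebraMap_isUnit (S := Localization.Away (je (j := j) t)) (je (j := j) t)).pow n).mul_right_cancel ?_
  rw [cst_val, ← map_pow, Away.val_mk, RelConeLib.Gen.mk_mul_algebraMap_pow, ← map_mul, hr]

include hz in
theorem zmem : RelCone.restrictTop 𝒮h z t.U ∈ 𝒮h.deg t.U t.hU (1 • 1) := by
  simpa using hz.deg_z t.U t.hU

theorem K_cst (r : Γ(Y, t.U)) : K (j' := j') hS hz t (cst t.U t.hU (te (j := j) hz t) r) = 𝒮'.str.app (op t.U) r := by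
  rw [K, awayHom_cst]
  exact gU_str hS hz t r

theorem K_z : K (j' := j') hS hz t (Away.mk _ (te_mem hS hz t) 1 (RelCone.restrictTop 𝒮h z t.U) (zmem hz t)) =
    je' (j' := j') t := by
  have h := awayHom_mk (𝒮h.deg t.U t.hU) (te_mem hS hz t) (gU (j' := j') hS hz t)
    (by rw [gU_te hS hz t]; exact isUnit_one) 1 _ (zmem hz t)
  simp only [gU_te hS hz t, one_pow, mul_one] at h
  exact h.trans (gU_z hS hz t)

/-- `R[X] → 𝒮h(U)_(te)` -/
def theta : Polynomial Γ(Y, t.U) →+* Away (𝒮h.deg t.U t.hU) (te (j := j) hz t) :=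
  Polynomial.eval₂RingHom (cst t.U t.hU (te (j := j) hz t))
    (Away.mk _ (te_mem hS hz t) 1 (RelCone.restrictTop 𝒮h z t.U) (zmem hz t))

include hS in
theorem theta_surjective : Function.Surjective (theta hS hz t) := by
  letI := RelConeLib.algι ι t.U
  have hb := RelConeLib.Gen.hatChart_bijective (RelProj.gradedHomAt ι hz.graded t.U t.hU) (fun _ => rfl)
    (RelCone.restrictTop 𝒮h z t.U) (hz.deg_z t.U t.hU) (RelConeLib.hat_bij hz t.U t.hU) (je_mem hS t)
  have hm := Polynomial.map_surjective (cst (𝒯 := 𝒮) t.U t.hU (je (j := j) t)) (cst_surjective hS t)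
  have e : theta hS hz t = (RelConeLib.Gen.hatChart (RelProj.gradedHomAt ι hz.graded t.U t.hU)
      (RelCone.restrictTop 𝒮h z t.U) (hz.deg_z t.U t.hU) (je_mem hS t)).comp
      (Polynomial.mapRingHom (cst (𝒯 := 𝒮) t.U t.hU (je (j := j) t))) := by
    refine Polynomial.ringHom_ext (fun r => ?_) ?_
    · simp only [theta, RelConeLib.Gen.hatChart, RingHom.comp_apply, Polynomial.coe_eval₂RingHom,
        Polynomial.eval₂_C, Polynomial.coe_mapRingHom, Polynomial.map_C]
      refine val_injective _ ?_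
      rw [cst_val]
      show _ = HomogeneousLocalization.val (Away.map (RelProj.gradedHomAt ι hz.graded t.U t.hU) _
        (HomogeneousLocalization.mk ⟨0, (𝒮.strZero t.U t.hU).hom r, (1 : 𝒮.deg t.U t.hU 0), one_mem _⟩))
      erw [HomogeneousLocalization.map_mk]
      simp [HomogeneousLocalization.val_mk, ← Localization.mk_one_eq_algebraMap]
      congr 1
      exact (MiscFlat6.gradedHomAt_strZero (φ := ι) (hφ := hz.graded) t.U t.hU r).symm
    · simp only [theta, RelConeLib.Gen.hatChart, RingHom.comp_apply, Polynomial.coe_eval₂RingHom,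
        Polynomial.eval₂_X, Polynomial.coe_mapRingHom, Polynomial.map_X]
  rw [e]
  exact hb.2.comp hm

theorem K_theta : (K (j' := j') hS hz t).comp (theta hS hz t) = piU (j' := j') t := by
  refine Polynomial.ringHom_ext (fun r => ?_) ?_
  · simp only [theta, piU, RingHom.comp_apply, Polynomial.coe_eval₂RingHom, Polynomial.eval₂_C]
    exact K_cst hS hz t r
  · simp only [theta, piU, RingHom.comp_apply, Polynomial.coe_eval₂RingHom, Polynomial.eval₂_X]
    exact K_z hS hz t

include hS' in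
theorem K_bijective : Function.Bijective (K (j' := j') hS hz t) := by
  have hπ := piU_bijective hS' t
  rw [← K_theta hS hz t] at hπ
  exact ⟨Function.Injective.of_comp_right (f := K (j' := j') hS hz t) hπ.1 (theta_surjective hS hz t),
    Function.Surjective.of_comp hπ.2⟩

include hS in
theorem domOpen_eq : RelCone.domOpen (RelProj.gradedHomAt ι hz.graded t.U t.hU) =
    Proj.basicOpen (𝒮h.deg t.U t.hU) (te (j := j) hz t) := by
  ext x
  constructor
  · intro hx
    obtain ⟨i, hi⟩ := (RelConeLib.mem_domOpen_iff _ _).mp hx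
    obtain ⟨r, hr⟩ := deg_span hS t i.mem
    rw [hr, map_mul, map_pow, Proj.basicOpen_mul, Proj.basicOpen_pow _ _ _ i.pos] at hi
    exact hi.2
  · intro hx
    exact (RelConeLib.mem_domOpen_iff _ _).mpr ⟨⟨1, je (j := j) t, one_pos, je_mem hS t⟩, hx⟩

def idx : Idx (𝒮.deg t.U t.hU) := ⟨1, je (j := j) t, one_pos, je_mem hS t⟩

/-- the chart into the domain of definition -/
def mid : Spec (𝒮'.presheaf.obj (op t.U)) ⟶ (RelCone.domOpen (RelProj.gradedHomAt ι hz.graded t.U t.hU) : Scheme.{u}) :=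
  Spec.map (CommRingCat.ofHom (K (j' := j') hS hz t)) ≫
    RelConeLib.dChart (RelProj.gradedHomAt ι hz.graded t.U t.hU) (idx hS t)

include hS' in
theorem isIso_mid : IsIso (mid (j' := j') hS hz t) := by
  haveI : IsIso (CommRingCat.ofHom (K (j' := j') hS hz t)) :=
    (ConcreteCategory.isIso_iff_bijective _).2 (K_bijective hS hz hS' t)
  haveI : IsIso (RelConeLib.dChart (RelProj.gradedHomAt ι hz.graded t.U t.hU) (idx hS t)) := by
    have : Surjective (RelConeLib.dChart (RelProj.gradedHomAt ι hz.graded t.U t.hU) (idx hS t)) := ⟨fun x =>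
      (RelConeLib.dChart_opensRange _ (idx hS t)).ge ((domOpen_eq hS hz t).le x.2)⟩
    refine isIso_of_isOpenImmersion_of_opensRange_eq_top _ ?_
    exact TopologicalSpace.Opens.ext (Set.range_eq_univ.2 (Scheme.Hom.surjective _))
  unfold mid
  infer_instance

/-- the target on a chart -/
def psi : Spec (𝒮'.presheaf.obj (op t.U)) ⟶ (RelCone.pointedProjCone 𝒮 hz pC chartC : Scheme.{u}) :=
  mid (j' := j') hS hz t ≫ RelConeLib.dEmb hz (chartC := chartC) t.U t.hU

theorem psi_ι : psi (j' := j') (chartC := chartC) hS hz t ≫ (RelCone.pointedProjCone 𝒮 hz pC chartC).ι =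
    Spec.map (CommRingCat.ofHom (K (j' := j') hS hz t)) ≫
      Proj.awayι (𝒮h.deg t.U t.hU) (te (j := j) hz t) (te_mem hS hz t) one_pos ≫
        RelProj.emb pC chartC t.U t.hU := by
  rw [psi, mid, Category.assoc, Category.assoc, RelConeLib.dEmb_ι,
    reassoc_of% (RelConeLib.dChart_ι (RelProj.gradedHomAt ι hz.graded t.U t.hU) (idx hS t))]
  rfl

include hPC in
theorem psi_over : psi (j' := j') (chartC := chartC) hS hz t ≫ (RelCone.pointedProjCone 𝒮 hz pC chartC).ι ≫ pC =
    Spec.map (𝒮'.str.app (op t.U)) ≫ t.hU.fromSpec := by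
  rw [← Category.assoc, psi_ι, Category.assoc, Category.assoc, RelConeLib.emb_over hPC, Proj.awayι_toSpecZero_assoc,
    ← Spec.map_comp_assoc, ← Spec.map_comp_assoc]
  congr 2
  exact CommRingCat.hom_ext (RingHom.ext fun r => K_cst hS hz t r)

include hPC in
theorem psi_res (s : Frame τ) (r : Γ(Y, t.U)) (hs : s.U = Y.basicOpen r) (hle : s.U ≤ t.U) :
    Spec.map (𝒮'.presheaf.map (homOfLE hle).op) ≫ psi (j' := j') (chartC := chartC) hS hz t =
      psi (j' := j') (chartC := chartC) hS hz s := by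
  rw [← cancel_mono (RelCone.pointedProjCone 𝒮 hz pC chartC).ι, Category.assoc, psi_ι, psi_ι]
  obtain ⟨W, hW, f, hf, f', hf', hff⟩ := s
  simp only at hs
  subst hs
  let ρh := 𝒮h.res t.hU hW hle
  obtain ⟨w, hw⟩ := (hf _ le_rfl).2 (res L hle t.e)
  obtain ⟨w', hw'⟩ := (hf' _ le_rfl).2 (res L' hle t.e')
  simp only [AmpleLib.res_refl] at hw hw'
  have huw : w * w' = 1 := by
    have h := tau_res hle t.e t.e' t.hτ
    rw [← hw, ← hw', AmpleLib.shT_smul, QCohLib.app_smul, hff] at h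
    exact (mul_one _).symm.trans h
  let fr : Frame τ := ⟨Y.basicOpen r, hW, f, hf, f', hf', hff⟩
  let g := gU (j' := j') hS hz fr
  let σ := 𝒮'.str.app (op (Y.basicOpen r))
  have hjs : 𝒮.res t.hU hW hle (je (j := j) t) = 𝒮.str.app (op (Y.basicOpen r)) w * je (j := j) fr := by
    refine ((QCohLib.app_map j (homOfLE hle) t.e).symm.trans (congrArg (fun m => j.app (Y.basicOpen r) m) hw.symm)).trans ?_
    exact QCohLib.app_smul j _ w f
  have hjs' : (𝒮'.presheaf.map (homOfLE hle).op).hom (je' (j' := j') t) = σ w' * je' (j' := j') fr := by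
    refine ((QCohLib.app_map j' (homOfLE hle) t.e').symm.trans (congrArg (fun m => j'.app (Y.basicOpen r) m) hw'.symm)).trans ?_
    exact QCohLib.app_smul j' _ w' f'
  have hge : g (ρh (te (j := j) hz t)) = σ w := by
    rw [RelConeLib.res_gradedHomAt hz.graded t.hU hW hle (je (j := j) t), hjs, map_mul, map_mul,
      show g (te (j := j) hz fr) = 1 from gU_te hS hz fr, mul_one]
    exact (gU_ι hS hz fr _).trans ((exists_aU (𝒮' := 𝒮') hS fr).choose_spec.1 w)
  have hwu : IsUnit (σ w) := (IsUnit.of_mul_eq_one _ huw).map σ.hom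
  have hu2 : IsUnit (g (ρh (te (j := j) hz t))) := hge ▸ hwu
  have hte : ρh (te (j := j) hz t) ∈ 𝒮h.deg (Y.basicOpen r) hW 1 := ρh.2 (te_mem hS hz t)
  rw [show Spec.map (CommRingCat.ofHom (K (j' := j') hS hz fr)) ≫
      Proj.awayι (𝒮h.deg fr.U fr.hU) (te (j := j) hz fr) (te_mem hS hz fr) one_pos ≫
        RelProj.emb pC chartC fr.U fr.hU =
      Spec.map (CommRingCat.ofHom (awayHom (𝒮h.deg (Y.basicOpen r) hW) g hu2)) ≫
        Proj.awayι (𝒮h.deg (Y.basicOpen r) hW) _ hte one_pos ≫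
          RelProj.emb pC chartC (Y.basicOpen r) hW from by
    rw [← Category.assoc, ← Category.assoc]
    exact congrArg (· ≫ RelProj.emb pC chartC (Y.basicOpen r) hW)
      (spec_awayHom_eq _ (te_mem hS hz fr) hte g _ hu2)]
  rw [← RelProj.map_res_emb hPC t.U t.hU r]
  have hk : Proj.awayι (𝒮h.deg (Y.basicOpen r) hW) (ρh (te (j := j) hz t)) hte one_pos ≫
      Proj.map (𝒮h.res t.hU (t.hU.basicOpen r) (Y.basicOpen_le r)) (𝒮h.irrelevant_le_map t.U t.hU r) =
      Spec.map (CommRingCat.ofHom (Away.map ρh (te (j := j) hz t))) ≫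
        Proj.awayι (𝒮h.deg t.U t.hU) _ (te_mem hS hz t) one_pos :=
    Proj.awayι_comp_map ρh _ one_pos _ _
  erw [reassoc_of% hk]
  simp only [← Category.assoc]
  congr 2
  rw [← Spec.map_comp, ← Spec.map_comp]
  congr 1
  refine CommRingCat.hom_ext (RingHom.ext fun a => ?_)
  obtain ⟨q, rfl⟩ := theta_surjective hS hz t a
  refine RingHom.congr_fun (Polynomial.ringHom_ext (f := (((𝒮'.presheaf.map (homOfLE hle).op).hom.comp
    (K (j' := j') hS hz t))).comp (theta hS hz t)) (g := ((awayHom (𝒮h.deg (Y.basicOpen r) hW) g hu2).comp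
      (Away.map ρh (te (j := j) hz t))).comp (theta hS hz t)) (fun c => ?_) ?_) q
  · simp only [theta, RingHom.comp_apply, Polynomial.coe_eval₂RingHom, Polynomial.eval₂_C]
    rw [K_cst hS hz t c]
    have h1 : Away.map ρh (te (j := j) hz t) (cst t.U t.hU (te (j := j) hz t) c) =
        cst (Y.basicOpen r) hW (ρh (te (j := j) hz t)) (Y.presheaf.map (homOfLE hle).op c) := by
      refine val_injective _ ?_
      rw [cst_val]
      show HomogeneousLocalization.val (Away.map ρh _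
        (HomogeneousLocalization.mk ⟨0, (𝒮h.strZero t.U t.hU).hom c, (1 : 𝒮h.deg t.U t.hU 0), one_mem _⟩)) = _
      erw [HomogeneousLocalization.map_mk]
      simp [HomogeneousLocalization.val_mk, ← Localization.mk_one_eq_algebraMap]
      congr 1
    rw [RingHom.comp_apply, RingHom.comp_apply, Polynomial.coe_eval₂RingHom, Polynomial.eval₂_C, h1, awayHom_cst]
    exact (NatTrans.naturality_apply 𝒮'.str (homOfLE hle).op c).symm.trans (gU_str hS hz fr _).symm
  · simp only [theta, RingHom.comp_apply, Polynomial.coe_eval₂RingHom, Polynomial.eval₂_X]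
    rw [K_z hS hz t, RingHom.comp_apply, RingHom.comp_apply, Polynomial.coe_eval₂RingHom, Polynomial.eval₂_X, Away.map_mk, hjs']
    refine hu2.mul_right_cancel ?_
    have h := awayHom_mk (𝒮h.deg (Y.basicOpen r) hW) hte g hu2 1
      (ρh (RelCone.restrictTop 𝒮h z t.U)) (ρh.2 (zmem hz t))
    rw [pow_one] at h
    refine Eq.trans ?_ h.symm
    rw [hge, RelConeLib.restrictTop_res t.U t.hU hW hle]
    refine Eq.trans ?_ (gU_z hS hz fr).symm
    rw [mul_right_comm, ← map_mul, mul_comm w' w, huw, map_one, one_mul]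

include hPC hS hS' in
theorem exists_iso (hL : PicF.IsInvertible L) (hL' : PicF.IsInvertible L') [IsIso τ] :
    ∃ e : 𝒮'.spec ≅ ((RelCone.pointedProjCone 𝒮 hz pC chartC : PC.Opens) : Scheme.{u}),
      e.hom ≫ (RelCone.pointedProjCone 𝒮 hz pC chartC).ι ≫ pC = 𝒮'.π := by
  have hcov : ∀ y : Y, ∃ t : Frame τ, y ∈ t.U := exists_frame hL hL'
  obtain ⟨Φ, hΦ, -⟩ := RelConeLib.existsUnique_glue_local (fun t : Frame τ => 𝒮'.ι t.U t.hU)
    (fun t => psi (j' := j') (chartC := chartC) hS hz t)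
    (fun x => by
      obtain ⟨t, ht⟩ := hcov (𝒮'.π x)
      exact ⟨t, (𝒮'.π_preimage t.U t.hU).le ht⟩)
    (fun a b x hx hx' => by
      have hxa : 𝒮'.π x ∈ a.U := (𝒮'.π_preimage a.U a.hU).ge hx
      have hxb : 𝒮'.π x ∈ b.U := (𝒮'.π_preimage b.U b.hU).ge hx'
      obtain ⟨r, r', e, hr⟩ := exists_basicOpen_le_affine_inter a.hU b.hU _ ⟨hxa, hxb⟩
      let k := a.restrict (a.hU.basicOpen r) (Y.basicOpen_le r)
      have hkb : k.U ≤ b.U := e.le.trans (Y.basicOpen_le r')
      refine ⟨k, Spec.map (𝒮'.presheaf.map (homOfLE (Y.basicOpen_le r)).op),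
        Spec.map (𝒮'.presheaf.map (homOfLE hkb).op), (𝒮'.π_preimage k.U k.hU).le hr,
        RelConeLib.ι_res_le 𝒮' a.hU k.hU _, RelConeLib.ι_res_le 𝒮' b.hU k.hU _,
        psi_res hS hz hPC a k r rfl (Y.basicOpen_le r), psi_res hS hz hPC b k r' e hkb⟩)
  have hover : Φ ≫ (RelCone.pointedProjCone 𝒮 hz pC chartC).ι ≫ pC = 𝒮'.π := by
    refine RelConeLib.ext_of_charts _ _ fun x => ?_
    obtain ⟨t, ht⟩ := hcov (𝒮'.π x)
    refine ⟨_, 𝒮'.ι t.U t.hU, inferInstance, (𝒮'.π_preimage t.U t.hU).le ht, ?_⟩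
    rw [← Category.assoc, hΦ t, psi_over hS hz hPC, 𝒮'.ι_π]
  haveI : IsIso Φ := by
    refine RelConeLib.of_squares (MorphismProperty.isomorphisms Scheme.{u}) Φ
      (fun t : Frame τ => 𝒮'.ι t.U t.hU) (fun t => RelConeLib.dEmb hz (chartC := chartC) t.U t.hU)
      (fun t => mid (j' := j') hS hz t) (fun t => hΦ t) (fun t => ?_) (fun x => ?_)
      (fun t => isIso_mid hS hz hS' t)
    · rw [RelConeLib.dEmb_opensRange hz hPC, ← Scheme.Hom.comp_preimage, hover, 𝒮'.π_preimage]
    · obtain ⟨t, ht⟩ := hcov (((RelCone.pointedProjCone 𝒮 hz pC chartC).ι ≫ pC) x)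
      exact ⟨t, (RelConeLib.dEmb_opensRange hz hPC t.U t.hU).ge ht⟩
  exact ⟨asIso Φ, hover⟩

end

end Groth.Agent.PCInvLib
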